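import Groth.Agent.Lib.CAlgLow.ProjCrit
import Mathlib.RingTheory.Flat.FaithfullyFlat.Algebra
import Mathlib.RingTheory.Localization.BaseChange
import Mathlib.LinearAlgebra.TensorProduct.Pi
import Mathlib.Algebra.Module.Projective
import Mathlib.RingTheory.TensorProduct.Free

/-!
# Projectivity is local on the spectrum
-/

set_option autoImplicit false
set_option linter.style.haveILetI false

universe u

open TensorProduct

namespace Groth.Agent.ProjLoc12

variable {R : Type u} [CommRing R] {ι : Type u} [Finite ι] (f : ι → R)
  (A : ι → Type u) [∀ i, CommRing (A i)] [∀ i, Algebra R (A i)] [∀ i, IsLocalization.Away (f i) (A i)]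

include f in
theorem flat_pi : Module.Flat R (∀ i, A i) := by
  classical
  cases nonempty_fintype ι
  haveI : ∀ i, Module.Flat R (A i) := fun i => IsLocalization.flat (A i) (Submonoid.powers (f i))
  exact Module.Flat.of_linearEquiv (DirectSum.linearEquivFunOnFintype R ι A).symm

include f in
theorem faithfullyFlat_pi (hf : Ideal.span (Set.range f) = ⊤) :
    Module.FaithfullyFlat R (∀ i, A i) := by
  haveI := flat_pi f A
  refine Module.FaithfullyFlat.of_comap_surjective fun p => ?_
  obtain ⟨i, hi⟩ : ∃ i, f i ∉ p.asIdeal := by
    by_contra! h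
    exact p.2.ne_top (top_le_iff.1 (hf ▸ Ideal.span_le.2 (by rintro _ ⟨i, rfl⟩; exact h i)))
  obtain ⟨q, hq⟩ := (Set.ext_iff.1 (PrimeSpectrum.localization_away_comap_range (A i) (f i)) p).2 hi
  exact ⟨PrimeSpectrum.comap (Pi.evalRingHom A i) q, hq⟩

/-- Projectivity can be checked on a cover by basic opens. -/
theorem projective_of_span (hf : Ideal.span (Set.range f) = ⊤) (M : Type u) [AddCommGroup M] [Module R M]
    (h : ∀ i, Module.Projective (A i) (A i ⊗[R] M)) : Module.Projective R M := by
  classical
  cases nonempty_fintype ι
  haveI := faithfullyFlat_pi f A hf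
  let S := ∀ i, A i
  let π : (M →₀ R) →ₗ[R] M := Finsupp.linearCombination R id
  have hπ : Function.Surjective π := Finsupp.linearCombination_id_surjective R M
  have hsec : ∀ i, ∃ s : A i ⊗[R] M →ₗ[A i] A i ⊗[R] (M →₀ R), π.baseChange (A i) ∘ₗ s = LinearMap.id := fun i => by
    haveI := h i
    exact Module.projective_lifting_property _ _ (LinearMap.lTensor_surjective (A i) hπ)
  choose s hs using hsec
  let σ : S ⊗[R] M →ₗ[R] S ⊗[R] (M →₀ R) :=
    ∑ i, ((LinearMap.single R A i).rTensor (M →₀ R)).comp
      (((s i).restrictScalars R).comp ((LinearMap.proj (R := R) (φ := A) i).rTensor M))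
  have hσ : ∀ x, σ x = ∑ i, (LinearMap.single R A i).rTensor (M →₀ R) (s i
      ((LinearMap.proj (R := R) (φ := A) i).rTensor M x)) := fun x => LinearMap.sum_apply _ _ _
  have hlin : ∀ (c : S) x, σ (c • x) = c • σ x := fun c x => by
    rw [hσ, hσ, Finset.smul_sum]
    refine Finset.sum_congr rfl fun i _ => ?_
    have e1 : ∀ y : S ⊗[R] M, (LinearMap.proj (R := R) (φ := A) i).rTensor M (c • y) =
        c i • (LinearMap.proj (R := R) (φ := A) i).rTensor M y := fun y => by
      induction y using TensorProduct.induction_on with
      | zero => simp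
      | tmul a m => rfl
      | add a b ha hb => simp only [smul_add, map_add, ha, hb]
    have e2 : ∀ y : A i ⊗[R] (M →₀ R), (LinearMap.single R A i).rTensor (M →₀ R) (c i • y) =
        c • (LinearMap.single R A i).rTensor (M →₀ R) y := fun y => by
      induction y using TensorProduct.induction_on with
      | zero => simp
      | tmul a m =>
        rw [TensorProduct.smul_tmul', LinearMap.rTensor_tmul, LinearMap.rTensor_tmul,
          TensorProduct.smul_tmul']
        refine congrArg (· ⊗ₜ[R] m) (funext fun j => ?_)
        rcases eq_or_ne j i with rfl | hji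
        · show _ = c j * _; simp
        · show _ = c j * _; simp [Pi.single_eq_of_ne hji]
      | add a b ha hb => simp only [smul_add, map_add, ha, hb]
    rw [e1, map_smul, e2]
  let σ' : S ⊗[R] M →ₗ[S] S ⊗[R] (M →₀ R) :=
    { toFun := σ, map_add' := map_add σ, map_smul' := hlin }
  have hcomp : ∀ i (y : A i ⊗[R] (M →₀ R)), π.baseChange S ((LinearMap.single R A i).rTensor _ y) =
      (LinearMap.single R A i).rTensor M (π.baseChange (A i) y) := fun i y => by
    induction y using TensorProduct.induction_on with
    | zero => simp
    | tmul a m => simp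
    | add a b ha hb => simp only [map_add, ha, hb]
  have hid : π.baseChange S ∘ₗ σ' = LinearMap.id := by
    refine LinearMap.ext fun x => ?_
    show π.baseChange S (σ x) = x
    rw [hσ, map_sum]
    have : ∀ i, π.baseChange S ((LinearMap.single R A i).rTensor (M →₀ R)
        (s i ((LinearMap.proj (R := R) (φ := A) i).rTensor M x))) =
        (LinearMap.single R A i).rTensor M ((LinearMap.proj (R := R) (φ := A) i).rTensor M x) := fun i => by
      rw [hcomp]
      exact congrArg _ (LinearMap.congr_fun (hs i) _)
    simp only [this]
    clear this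
    induction x using TensorProduct.induction_on with
    | zero => simp
    | tmul a m =>
      simp only [LinearMap.rTensor_tmul, ← TensorProduct.sum_tmul]
      exact congrArg (· ⊗ₜ[R] m) (Finset.univ_sum_single a)
    | add a b ha hb => simp only [map_add, Finset.sum_add_distrib, ha, hb]
  haveI : Module.Projective S (S ⊗[R] M) := Module.Projective.of_split σ' (π.baseChange S) hid
  exact CAlgLow.projective_of_faithfullyFlat (S := S)

/-- Projectivity can be checked on localized modules. -/
theorem projective_of_localizationSpan (hf : Ideal.span (Set.range f) = ⊤) (M : Type u) [AddCommGroup M]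
    [Module R M] (N : ι → Type u) [∀ i, AddCommGroup (N i)] [∀ i, Module R (N i)] [∀ i, Module (A i) (N i)]
    [∀ i, IsScalarTower R (A i) (N i)] (L : ∀ i, M →ₗ[R] N i)
    [∀ i, IsLocalizedModule (Submonoid.powers (f i)) (L i)] (h : ∀ i, Module.Projective (A i) (N i)) :
    Module.Projective R M :=
  projective_of_span f A hf M fun i => by
    haveI := h i
    exact Module.Projective.of_equiv
      (IsLocalizedModule.isBaseChange (Submonoid.powers (f i)) (A i) (L i)).equiv.symm

/-- Projectivity passes to base changes. -/
theorem projective_of_isBaseChange {R' : Type u} [CommRing R'] [Algebra R R'] {M N : Type u} [AddCommGroup M]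
    [Module R M] [AddCommGroup N] [Module R N] [Module R' N] [IsScalarTower R R' N] {L : M →ₗ[R] N}
    (hL : IsBaseChange R' L) [Module.Projective R M] : Module.Projective R' N :=
  Module.Projective.of_equiv hL.equiv

end Groth.Agent.ProjLoc12
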