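import Groth.Agent.Lib.ProjLoc12.Alg
import Groth.Agent.Lib.RelFPH13.Geo

/-!
# Modules with projective sections on affine opens
-/

set_option autoImplicit false
set_option linter.style.haveILetI false
set_option backward.isDefEq.respectTransparency.types false

universe u

open AlgebraicGeometry CategoryTheory Limits TensorProduct TopologicalSpace Opposite

namespace Groth.Agent.ProjLoc12

variable {X : Scheme.{u}} (F : X.Modules) [Coh.IsQCoh F]

theorem projective_basicOpen {U : X.Opens} (hU : IsAffineOpen U) (g : Γ(X, U))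
    (h : Module.Projective Γ(X, U) Γ(F, U)) :
    Module.Projective Γ(X, X.basicOpen g) Γ(F, X.basicOpen g) := by
  letI := RelFPH13.resAlg (X.basicOpen_le g)
  letI : Module Γ(X, U) Γ(F, X.basicOpen g) := Module.compHom _ (M1.ores (X.basicOpen_le g)).hom
  haveI : IsScalarTower Γ(X, U) Γ(X, X.basicOpen g) Γ(F, X.basicOpen g) :=
    IsScalarTower.of_algebraMap_smul fun _ _ => rfl
  haveI : IsLocalization.Away g Γ(X, X.basicOpen g) := hU.isLocalization_basicOpen g
  obtain ⟨L, hL⟩ := RelFPH13.isLocalizedModule_mres F hU g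
  exact projective_of_isBaseChange
    (IsLocalizedModule.isBaseChange (Submonoid.powers g) Γ(X, X.basicOpen g) L)

theorem projective_of_cover {U : X.Opens} (hU : IsAffineOpen U)
    (hc : ∀ x ∈ U, ∃ g : Γ(X, U), x ∈ X.basicOpen g ∧
      Module.Projective Γ(X, X.basicOpen g) Γ(F, X.basicOpen g)) :
    Module.Projective Γ(X, U) Γ(F, U) := by
  classical
  let G : Set Γ(X, U) := {g | Module.Projective Γ(X, X.basicOpen g) Γ(F, X.basicOpen g)}
  have hG : Ideal.span G = ⊤ := hU.self_le_iSup_basicOpen_iff.1 fun x hx => by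
    obtain ⟨g, hg, hok⟩ := hc x hx
    exact Opens.mem_iSup.2 ⟨⟨g, hok⟩, hg⟩
  obtain ⟨s, hsG, hs⟩ := (Ideal.span_eq_top_iff_finite G).1 hG
  letI : ∀ i : s, Algebra Γ(X, U) Γ(X, X.basicOpen i.1) := fun i => RelFPH13.resAlg (X.basicOpen_le i.1)
  letI : ∀ i : s, Module Γ(X, U) Γ(F, X.basicOpen i.1) := fun i =>
    Module.compHom _ (M1.ores (X.basicOpen_le i.1)).hom
  haveI : ∀ i : s, IsScalarTower Γ(X, U) Γ(X, X.basicOpen i.1) Γ(F, X.basicOpen i.1) := fun i =>
    IsScalarTower.of_algebraMap_smul fun _ _ => rfl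
  haveI : ∀ i : s, IsLocalization.Away i.1 Γ(X, X.basicOpen i.1) := fun i =>
    hU.isLocalization_basicOpen i.1
  choose L hL using fun i : s => RelFPH13.isLocalizedModule_mres F hU i.1
  haveI := hL
  exact projective_of_localizationSpan (fun i : s => (i.1 : Γ(X, U))) (fun i => Γ(X, X.basicOpen i.1))
    (by rw [Subtype.range_coe_subtype]; exact hs) Γ(F, U) (fun i => Γ(F, X.basicOpen i.1)) L
    fun i => hsG i.2

omit [Coh.IsQCoh F] in
theorem projective_congr {U V : X.Opens} (e : U = V) (h : Module.Projective Γ(X, U) Γ(F, U)) :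
    Module.Projective Γ(X, V) Γ(F, V) := by
  subst e; exact h

/-- Projectivity of sections spreads from an affine cover to all affine opens. -/
theorem projective_of_pointwise
    (hc : ∀ x : X, ∃ V : X.Opens, IsAffineOpen V ∧ x ∈ V ∧ Module.Projective Γ(X, V) Γ(F, V))
    {U : X.Opens} (hU : IsAffineOpen U) : Module.Projective Γ(X, U) Γ(F, U) := by
  refine projective_of_cover F hU fun x hx => ?_
  obtain ⟨V, hV, hxV, hp⟩ := hc x
  obtain ⟨g, g', hgg, hxg⟩ := exists_basicOpen_le_affine_inter hU hV x ⟨hx, hxV⟩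
  exact ⟨g, hxg, projective_congr F hgg.symm (projective_basicOpen F hV g' hp)⟩

end Groth.Agent.ProjLoc12
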